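import Groth.Agent.Pi1Ext.StF.Count
import Groth.Agent.S1327
import Groth.Agent.H23.RigidGamma
import Groth.Agent.H23.RigidBase
import Groth.Agent.Pi1Ext.GDesc.Section
import Mathlib.AlgebraicGeometry.Normalization
import Mathlib.AlgebraicGeometry.Morphisms.Etale
import Mathlib.RingTheory.Etale.Pi

/-!
# Functions on a proper flat scheme with sections in all geometric components
-/

set_option linter.style.haveILetI false
set_option backward.isDefEq.respectTransparency false
set_option backward.isDefEq.respectTransparency.types false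

universe u

open CategoryTheory CategoryTheory.Limits AlgebraicGeometry TopologicalSpace Opposite

noncomputable section

namespace Groth.Agent.Pi1Ext.StF

open Groth.Agent

variable {A : Type u} [CommRing A] {X : Scheme.{u}} (f : X ⟶ Spec (CommRingCat.of A))
  [IsProper f] [Flat f] [LocallyOfFinitePresentation f] [GeometricallyReduced f]
  {n : ℕ} (e : Fin n → (Spec (CommRingCat.of A) ⟶ X)) (he : ∀ j, e j ≫ f = 𝟙 _)
  (hgood : ∀ y, Good f e y)

include he in
/-- The union of the components of a section is open. -/
theorem isOpen_sectionComponents (j : Fin n) : IsOpen (MoreMor.sectionComponents f (e j)) := by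
  rw [isOpen_iff_mem_nhds]
  intro x hx
  exact mem_interior_iff_mem_nhds.1 (Groth.Agent.S1327.result f (e j) (he j) (f x) inferInstance hx)

/-- The open pieces. -/
def piece (j : Fin n) : X.Opens := ⟨MoreMor.sectionComponents f (e j), isOpen_sectionComponents f e he j⟩

include hgood in
theorem eq_of_mem {x : X} {i j : Fin n} (hi : x ∈ piece f e he i) (hj : x ∈ piece f e he j) : i = j := by
  have hi' : x ∈ connectedComponentIn (f ⁻¹' {f x}) (e i (f x)) := hi
  have hj' : x ∈ connectedComponentIn (f ⁻¹' {f x}) (e j (f x)) := hj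
  refine (hgood (f x)).1 i j ?_
  show e j (f x) ∈ connectedComponentIn (f ⁻¹' {f (e j (f x))}) (e i (f (e j (f x))))
  rw [SecComp5.apply_section f (e j) (he j)]
  rw [connectedComponentIn_eq hi', ← connectedComponentIn_eq hj']
  exact mem_connectedComponentIn (SecComp5.apply_section f (e j) (he j) (f x))

include hgood in
theorem exists_mem (x : X) : ∃ j, x ∈ piece f e he j := covers_of_good f e he (hgood (f x)) x rfl

include hgood in
theorem isClosed_piece (j : Fin n) : IsClosed (piece f e he j : Set X) := by
  rw [← isOpen_compl_iff, show (piece f e he j : Set X)ᶜ = ⋃ i ∈ {i | i ≠ j}, (piece f e he i : Set X) from ?_]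
  · exact isOpen_biUnion fun i _ => (piece f e he i).isOpen
  ext x
  simp only [Set.mem_compl_iff, Set.mem_iUnion, Set.mem_setOf_eq, exists_prop]
  constructor
  · intro hx
    obtain ⟨i, hi⟩ := exists_mem f e he hgood x
    exact ⟨i, fun h => hx (h ▸ hi), hi⟩
  · rintro ⟨i, hij, hi⟩ hj
    exact hij (eq_of_mem f e he hgood hi hj)

/-- Evaluation at the sections. -/
def evalHom : letI := f.appTop.hom.toAlgebra
    Γ(X, ⊤) →ₐ[Γ(Spec (CommRingCat.of A), ⊤)] (Fin n → Γ(Spec (CommRingCat.of A), ⊤)) :=
  letI := f.appTop.hom.toAlgebra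
  { toRingHom := Pi.ringHom fun j => (e j).appTop.hom
    commutes' := fun r => funext fun j => by
      show (e j).appTop (f.appTop r) = r
      rw [← CommRingCat.comp_apply, ← Scheme.Hom.comp_appTop, he, Scheme.Hom.id_appTop]
      rfl }

include hgood in
theorem bijective_eval : letI := f.appTop.hom.toAlgebra
    Function.Bijective (evalHom f e he) := by
  letI := f.appTop.hom.toAlgebra
  let U := piece f e he
  have hcov : (⊤ : X.Opens) ≤ iSup U := fun x _ => Opens.mem_iSup.2 (exists_mem f e he hgood x)
  let σ : ∀ j, Spec (CommRingCat.of A) ⟶ (U j : Scheme.{u}) := fun j =>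
    IsOpenImmersion.lift (U j).ι (e j) (by
      rw [Scheme.Opens.range_ι]
      rintro _ ⟨z, rfl⟩
      exact SecComp5.section_mem f (e j) (he j) z)
  have hσ : ∀ j, σ j ≫ (U j).ι = e j := fun j => IsOpenImmersion.lift_fac _ _ _
  have hres : ∀ j (h : Γ(X, ⊤)), (U j).ι.appTop h = 0 ↔ X.presheaf.map (homOfLE le_top).op h = (0 : Γ(X, U j)) := by
    intro j h
    have h1 : (U j).ι.appTop = X.presheaf.map (homOfLE le_top).op ≫ (U j).topIso.inv := by
      simp [Scheme.Opens.ι_appTop, ← Functor.map_comp]
    rw [h1, CommRingCat.comp_apply]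
    exact map_eq_zero_iff _ (ConcreteCategory.bijective_of_isIso (U j).topIso.inv).1
  refine ⟨(injective_iff_map_eq_zero _).2 fun h hh => ?_, fun a => ?_⟩
  · refine X.sheaf.eq_of_locally_eq' U ⊤ (fun j => homOfLE le_top) hcov _ _ fun j => ?_
    refine ((hres j h).1 ?_).trans (map_zero _).symm
    let p := (U j).ι ≫ f
    haveI : IsClosedImmersion (U j).ι :=
      IsClosedImmersion.of_isPreimmersion _ (by rw [Scheme.Opens.range_ι]; exact isClosed_piece f e he hgood j)
    haveI : IsProper p := inferInstanceAs (IsProper (_ ≫ _))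
    haveI : Flat p := inferInstanceAs (Flat (_ ≫ _))
    haveI : LocallyOfFinitePresentation p := inferInstanceAs (LocallyOfFinitePresentation (_ ≫ _))
    haveI : GeometricallyConnected p := geomConn_of_good f e he (U j) j rfl
    haveI : GeometricallyReduced p := by
      refine GDesc.Sect.geometricallyReduced_of_isAlgClosed p fun Ω _ _ z => ?_
      haveI : IsReduced (pullback f z) :=
        GeometricallyReduced.geometrically_isReduced (f := f) _ _ _ (IsPullback.of_hasPullback f z)
      exact isReduced_of_isOpenImmersion ((pullbackRightPullbackFstIso f z (U j).ι).inv ≫ pullback.snd _ _)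
    refine H23.RigidBase.eq_zero_of_section p (H23.RigidGamma.constFibres p) (σ j)
      (by rw [← Category.assoc, hσ, he]) _ ?_
    rw [← CommRingCat.comp_apply, ← Scheme.Hom.comp_appTop, hσ]
    exact congrFun hh j
  · let g : ∀ j, Γ(X, ⊤) := fun j => f.appTop (a j)
    obtain ⟨h₁, hh, -⟩ := X.sheaf.existsUnique_gluing' U ⊤ (fun j => homOfLE le_top) hcov
      (fun j => X.presheaf.map (homOfLE le_top).op (g j)) (fun i j => by
        by_cases hij : i = j
        · subst hij; rfl
        · haveI : Subsingleton Γ(X, U i ⊓ U j) := by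
            rw [show U i ⊓ U j = ⊥ from eq_bot_iff.2 fun x hx => hij (eq_of_mem f e he hgood hx.1 hx.2)]
            infer_instance
          exact @Subsingleton.elim _ this _ _)
    let h : Γ(X, ⊤) := h₁
    refine ⟨h, funext fun j => ?_⟩
    have h0 : (U j).ι.appTop (h - g j) = 0 := (hres j _).2 (by
      rw [map_sub, sub_eq_zero]; exact hh j)
    show (e j).appTop h = a j
    rw [← hσ j, Scheme.Hom.comp_appTop, CommRingCat.comp_apply, ← sub_add_cancel h (g j), map_add, h0, zero_add,
      ← CommRingCat.comp_apply, ← Scheme.Hom.comp_appTop, hσ, ← CommRingCat.comp_apply, ← Scheme.Hom.comp_appTop,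
      he, Scheme.Hom.id_appTop]
    rfl

include he hgood in
/-- The Stein factor is finite étale. -/
theorem finite_etale_fromNormalization : IsFinite f.fromNormalization ∧ Etale f.fromNormalization := by
  let B := Γ(Spec (CommRingCat.of A), ⊤)
  letI : Algebra B Γ(X, ⊤) := f.appTop.hom.toAlgebra
  let E : Γ(X, ⊤) ≃ₐ[B] (Fin n → B) := AlgEquiv.ofBijective (evalHom f e he) (bijective_eval f e he hgood)
  haveI : Module.Finite B Γ(X, ⊤) := Module.Finite.equiv E.symm.toLinearEquiv
  haveI : Algebra.Etale B (Fin n → B) :=
    ⟨inferInstance, Algebra.FinitePresentation.of_finitePresentation _ _⟩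
  haveI : Algebra.Etale B Γ(X, ⊤) := Algebra.Etale.of_equiv E.symm
  have hIC : integralClosure B Γ(X, ⊤) = ⊤ := by
    refine eq_top_iff.2 fun x _ => ?_
    exact Algebra.IsIntegral.isIntegral x
  let J : integralClosure B Γ(X, ⊤) ≃ₐ[B] Γ(X, ⊤) := (Subalgebra.equivOfEq _ _ hIC).trans Subalgebra.topEquiv
  haveI : Module.Finite B (integralClosure B Γ(X, ⊤)) := Module.Finite.equiv J.symm.toLinearEquiv
  haveI : Algebra.Etale B (integralClosure B Γ(X, ⊤)) := Algebra.Etale.of_equiv J.symm
  have happ : f.fromNormalization.appTop = CommRingCat.ofHom (algebraMap B (integralClosure B Γ(X, ⊤))) ≫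
      (f.normalizationObjIso (isAffineOpen_top (Spec (CommRingCat.of A)))).inv :=
    f.fromNormalization_app (isAffineOpen_top _)
  haveI : IsAffine f.normalization := isAffine_of_isAffineHom f.fromNormalization
  constructor
  · rw [HasAffineProperty.iff_of_isAffine (P := @IsFinite)]
    refine ⟨inferInstance, ?_⟩
    rw [happ, CommRingCat.hom_comp]
    exact RingHom.finite_respectsIso.1 _ ((f.normalizationObjIso (isAffineOpen_top
      (Spec (CommRingCat.of A)))).commRingCatIsoToRingEquiv.symm) ((RingHom.finite_algebraMap (A := B) (B := integralClosure B Γ(X, ⊤))).2 inferInstance)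
  · rw [HasRingHomProperty.iff_of_isAffine (P := @Etale), happ, CommRingCat.hom_comp]
    exact RingHom.Etale.respectsIso.1 _ ((f.normalizationObjIso (isAffineOpen_top
      (Spec (CommRingCat.of A)))).commRingCatIsoToRingEquiv.symm) ((RingHom.etale_algebraMap (R := B) (S := integralClosure B Γ(X, ⊤))).2 inferInstance)

end Groth.Agent.Pi1Ext.StF
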