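import Groth.Agent.Pi1Ext.StF.Tower
import Groth.Agent.Pi1Ext.StF.Split
import Groth.Agent.S1364
import Groth.Agent.EtFound.Descent
import Mathlib.AlgebraicGeometry.Morphisms.LocalFlatDescent

/-!
# The Stein factor of a proper flat morphism with geometrically reduced fibres is finite étale
-/

set_option linter.style.haveILetI false
set_option backward.isDefEq.respectTransparency false
set_option backward.isDefEq.respectTransparency.types false

universe u

open CategoryTheory CategoryTheory.Limits AlgebraicGeometry TopologicalSpace MorphismProperty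

noncomputable section

namespace Groth.Agent.Pi1Ext.StF

open Groth.Agent

/-- Good sections at a point stay good nearby. -/
theorem exists_nhd_good {X S : Scheme.{u}} (f : X ⟶ S) [IsProper f] [Flat f] [LocallyOfFinitePresentation f]
    [GeometricallyReduced f] {n : ℕ} (e : Fin n → (S ⟶ X)) (he : ∀ j, e j ≫ f = 𝟙 S) {s : S}
    (h : Good f e s) : ∃ N : S.Opens, s ∈ N ∧ ∀ y ∈ N, Good f e y := by
  let U := ⋃ j, MoreMor.sectionComponents f (e j)
  have hU : IsOpen U := isOpen_iUnion fun j => isOpen_iff_mem_nhds.2 fun x hx =>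
    mem_interior_iff_mem_nhds.1 (Groth.Agent.S1327.result f (e j) (he j) (f x) inferInstance hx)
  let Z := f '' Uᶜ
  have hZ : IsClosed Z := f.isClosedMap _ hU.isClosed_compl
  have hs : s ∉ Z := by
    rintro ⟨x, hx, hxs⟩
    obtain ⟨j, hj⟩ := covers_of_good f e he h x hxs
    exact hx (Set.mem_iUnion.2 ⟨j, hj⟩)
  let N : S.Opens := ⟨Zᶜ ∩ {y | MoreMor.nGeomConnComp f y = MoreMor.nGeomConnComp f s},
    hZ.isOpen_compl.inter ((Groth.Agent.S1364.result f).isOpen_fiber _)⟩
  refine ⟨N, ⟨hs, rfl⟩, fun y hy => good_of_covers f e he (fun x hx => ?_) (hy.2.trans h.2)⟩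
  by_contra hne
  exact hy.1 ⟨x, fun hxU => hne (Set.mem_iUnion.1 hxU), hx⟩

/-- The Stein factor is finite étale. -/
theorem finite_etale {X S : Scheme.{u}} (f : X ⟶ S) [IsProper f] [Flat f] [LocallyOfFinitePresentation f]
    [GeometricallyReduced f] : IsFinite f.fromNormalization ∧ Etale f.fromNormalization := by
  suffices h : ∀ s : S, ∃ V : S.Opens, s ∈ V ∧
      IsFinite (f.fromNormalization ∣_ V) ∧ Etale (f.fromNormalization ∣_ V) by
    choose V hsV h1 h2 using h
    have hcov : iSup V = ⊤ := eq_top_iff.2 fun s _ => Opens.mem_iSup.2 ⟨s, hsV s⟩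
    exact ⟨(IsZariskiLocalAtTarget.iff_of_iSup_eq_top (P := @IsFinite) V hcov).2 h1,
      (IsZariskiLocalAtTarget.iff_of_iSup_eq_top (P := @Etale) V hcov).2 h2⟩
  intro s
  obtain ⟨T, h, hh, t, n, e, he, ht, hgood⟩ := exists_good f s
  haveI := hh
  let fT := pullback.snd f h
  haveI : IsProper fT := MorphismProperty.pullback_snd _ _ inferInstance
  haveI : Flat fT := MorphismProperty.pullback_snd (P := @Flat) _ _ inferInstance
  haveI : LocallyOfFinitePresentation fT :=
    MorphismProperty.pullback_snd (P := @LocallyOfFinitePresentation) _ _ inferInstance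
  haveI : GeometricallyReduced fT := MorphismProperty.pullback_snd (P := @GeometricallyReduced) _ _ inferInstance
  obtain ⟨N, htN, hN⟩ := exists_nhd_good fT e he hgood
  obtain ⟨W, hW, hsW, -⟩ := exists_isAffineOpen_mem_and_subset (x := s) (U := (⊤ : S.Opens)) trivial
  obtain ⟨O, hO, htO, hON⟩ := exists_isAffineOpen_mem_and_subset (x := t) (U := N ⊓ h ⁻¹ᵁ W)
    ⟨htN, by show h t ∈ W; rw [ht]; exact hsW⟩
  let A : Type u := Γ(T, O)
  let r : Spec (CommRingCat.of A) ⟶ T := hO.fromSpec
  have hr : ∀ a, r a ∈ O := fun a => hO.range_fromSpec.le ⟨a, rfl⟩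
  let g := r ≫ h
  haveI : Smooth g := inferInstanceAs (Smooth (_ ≫ _))
  let fA := pullback.snd f g
  haveI : IsProper fA := MorphismProperty.pullback_snd _ _ inferInstance
  haveI : Flat fA := MorphismProperty.pullback_snd (P := @Flat) _ _ inferInstance
  haveI : LocallyOfFinitePresentation fA :=
    MorphismProperty.pullback_snd (P := @LocallyOfFinitePresentation) _ _ inferInstance
  haveI : GeometricallyReduced fA := MorphismProperty.pullback_snd (P := @GeometricallyReduced) _ _ inferInstance
  let q : pullback f g ⟶ pullback f h :=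
    pullback.lift (pullback.fst f g) (fA ≫ r) (by
      rw [pullback.condition, Category.assoc])
  have hq : IsPullback q fA fT r := by
    refine IsPullback.of_right ?_ (pullback.lift_snd _ _ _) (IsPullback.of_hasPullback f h)
    rw [pullback.lift_fst]
    exact IsPullback.of_hasPullback f g
  let eA : Fin n → (Spec (CommRingCat.of A) ⟶ pullback f g) := fun j =>
    hq.lift (r ≫ e j) (𝟙 _) (by rw [Category.assoc, he, Category.comp_id, Category.id_comp])
  have hgoodA : ∀ y, Good fA eA y := fun y =>
    ⟨distinct_of_square q r hq.w (fun j => hq.lift_fst _ _ _) (fun j => hq.lift_snd _ _ _) (hN _ (hON (hr y)).1).1,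
      (Groth.Agent.S1335.result fT fA q r hq y).trans (hN _ (hON (hr y)).1).2⟩
  obtain ⟨hfin, het⟩ := finite_etale_fromNormalization fA eA (fun j => hq.lift_snd _ _ _) hgoodA
  let π := f.fromNormalization
  have h1 : IsFinite (pullback.snd π g) := by
    rw [← MorphismProperty.cancel_left_of_respectsIso @IsFinite (f.normalizationPullback g),
      Scheme.Hom.normalizationPullback_snd]
    exact hfin
  have h2 : Etale (pullback.snd π g) := by
    rw [← MorphismProperty.cancel_left_of_respectsIso @Etale (f.normalizationPullback g),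
      Scheme.Hom.normalizationPullback_snd]
    exact het
  -- descend to the image
  let V : S.Opens := ⟨Set.range g, g.isOpenMap.isOpen_range⟩
  obtain ⟨a, ha⟩ : t ∈ Set.range r := hO.range_fromSpec.ge htO
  refine ⟨V, ⟨a, by show (r ≫ h) a = s; rw [Scheme.Hom.comp_apply, ha, ht]⟩, ?_⟩
  let g' : Spec (CommRingCat.of A) ⟶ (V : Scheme.{u}) := IsOpenImmersion.lift V.ι g (by rw [Scheme.Opens.range_ι]; rfl)
  have hg' : g' ≫ V.ι = g := IsOpenImmersion.lift_fac _ _ _
  haveI : Flat g' := by
    haveI : Flat (g' ≫ V.ι) := by rw [hg']; infer_instance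
    exact MorphismProperty.of_postcomp @Flat g' V.ι (inferInstance : IsOpenImmersion V.ι) inferInstance
  haveI : Surjective g' := ⟨fun v => by
    obtain ⟨b, hb⟩ : (v.1 : S) ∈ Set.range g := v.2
    refine ⟨b, V.ι.isOpenEmbedding.injective ?_⟩
    rw [← Scheme.Hom.comp_apply, hg', hb]
    rfl⟩
  haveI : QuasiCompact g' := by
    haveI : QuasiSeparatedSpace ↥(V : Scheme.{u}) := by
      refine (isQuasiSeparated_iff_quasiSeparatedSpace _ V.isOpen).1 (hW.isQuasiSeparated.of_subset ?_)
      rintro _ ⟨b, rfl⟩
      exact (hON (hr b)).2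
    infer_instance
  have sq : IsPullback (pullback.snd π g) (pullback.lift (f := π) (g := V.ι) (pullback.fst π g)
      (pullback.snd π g ≫ g') (by rw [Category.assoc, hg']; exact pullback.condition)) g' (pullback.snd π V.ι) := by
    refine IsPullback.flip (IsPullback.of_right ?_ (pullback.lift_snd _ _ _) (IsPullback.of_hasPullback π V.ι))
    rw [pullback.lift_fst, hg']
    exact IsPullback.of_hasPullback π g
  have hg0 : (@Surjective ⊓ @Flat ⊓ @QuasiCompact : MorphismProperty Scheme.{u}) g' :=
    ⟨⟨inferInstance, inferInstance⟩, inferInstance⟩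
  haveI := EtFound.fpqc_isFinite.{u}
  have h3 : IsFinite (pullback.snd π V.ι) := MorphismProperty.of_isPullback_of_descendsAlong (P := @IsFinite) sq hg0 h1
  have h4 : Etale (pullback.snd π V.ι) := MorphismProperty.of_isPullback_of_descendsAlong (P := @Etale) sq hg0 h2
  have e0 : (pullbackRestrictIsoRestrict π V).inv ≫ pullback.snd π V.ι = π ∣_ V := rfl
  rw [← e0]
  exact ⟨(MorphismProperty.cancel_left_of_respectsIso @IsFinite _ _).2 h3,
    (MorphismProperty.cancel_left_of_respectsIso @Etale _ _).2 h4⟩

end Groth.Agent.Pi1Ext.StF
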