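import Groth.Agent.SecComp5.Fibre
import Groth.Agent.Lsc5.Count
import Groth.Agent.Triage.GeomCount
import Groth.Agent.S1335
import Groth.Agent.S2502
import Mathlib.AlgebraicGeometry.Geometrically.Reduced

/-!
# Sections in distinct components of a fibre and the geometric number of components
-/

set_option linter.style.haveILetI false
set_option backward.isDefEq.respectTransparency false
set_option backward.isDefEq.respectTransparency.types false

universe u

open CategoryTheory CategoryTheory.Limits AlgebraicGeometry TopologicalSpace

noncomputable section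

namespace Groth.Agent.Pi1Ext.StF

open Groth.Agent

variable {X S : Scheme.{u}} (f : X ⟶ S)

/-- The number of geometric components is finite. -/
theorem nGeom_lt_top [IsProper f] (s : S) : MoreMor.nGeomConnComp f s < ⊤ := by
  let q := pullback.snd (f.fiberToSpecResidueField s) (Lsc5.sepPt s)
  haveI : IsProper (f.fiberToSpecResidueField s) := MorphismProperty.pullback_snd _ _ inferInstance
  haveI : IsProper q := MorphismProperty.pullback_snd _ _ inferInstance
  haveI : IsLocallyNoetherian (MoreMor.geomFiber f s) := LocallyOfFiniteType.isLocallyNoetherian q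
  haveI : CompactSpace ↥(MoreMor.geomFiber f s) := QuasiCompact.compactSpace_of_compactSpace q
  haveI : AlgebraicGeometry.IsNoetherian (MoreMor.geomFiber f s) := ⟨⟩
  haveI := SecComp5.locallyConnectedSpace (MoreMor.geomFiber f s)
  haveI : DiscreteTopology (_root_.ConnectedComponents ↥(MoreMor.geomFiber f s)) :=
    ConnectedComponents.discreteTopology_iff.2 fun x => isOpen_connectedComponent
  haveI : CompactSpace (_root_.ConnectedComponents ↥(MoreMor.geomFiber f s)) := inferInstance
  haveI : Finite (_root_.ConnectedComponents ↥(MoreMor.geomFiber f s)) := finite_of_compact_of_discrete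
  exact ENat.card_lt_top.2 inferInstance

variable {n : ℕ} (e : Fin n → (S ⟶ X)) (he : ∀ j, e j ≫ f = 𝟙 S)

/-- The sections meet pairwise distinct components of the fibre. -/
def Distinct (s : S) : Prop :=
  ∀ i j, e j s ∈ MoreMor.sectionComponents f (e i) → i = j

/-- The sections meet pairwise distinct components and there are as many as geometric components. -/
def Good (s : S) : Prop :=
  Distinct f e s ∧ MoreMor.nGeomConnComp f s = n

/-- Every point of the fibre lies in the component of one of the sections. -/
def Covers (s : S) : Prop :=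
  ∀ x : X, f x = s → ∃ j, x ∈ MoreMor.sectionComponents f (e j)

include he

/-- The points cut out by the sections in the fibre. -/
abbrev pt (s : S) (j : Fin n) : ↥(f.fiber s) :=
  SecComp5.fibreSection f (e j) (he j) s (IsLocalRing.closedPoint (S.residueField s))

theorem fiberι_pt (s : S) (j : Fin n) : f.fiberι s (pt f e he s j) = e j s := by
  rw [← Scheme.Hom.comp_apply, show SecComp5.fibreSection f (e j) (he j) s ≫ f.fiberι s =
    S.fromSpecResidueField s ≫ e j from pullback.lift_fst _ _ _, Scheme.Hom.comp_apply,
    Scheme.fromSpecResidueField_apply]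

theorem mem_iff (s : S) (i j : Fin n) :
    e j s ∈ MoreMor.sectionComponents f (e i) ↔
      pt f e he s j ∈ connectedComponent (pt f e he s i) := by
  rw [← fiberι_pt f e he s j]
  exact SecComp5.fiberι_mem_iff f (e i) (he i) s _

theorem injective_of_distinct {s : S} (h : Distinct f e s) :
    Function.Injective fun j => ConnectedComponents.mk (pt f e he s j) := fun i j hij =>
  h i j ((mem_iff f e he s i j).2 (ConnectedComponents.coe_eq_coe'.1 hij.symm))

omit he in
theorem card_fiber_le (s : S) :
    ENat.card (_root_.ConnectedComponents ↥(f.fiber s)) ≤ MoreMor.nGeomConnComp f s := by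
  let π := pullback.fst (f.fiberToSpecResidueField s) (Lsc5.sepPt s)
  haveI : Surjective (Lsc5.sepPt s) := ⟨fun p => ⟨default, Subsingleton.elim _ _⟩⟩
  haveI : Surjective π := inferInstance
  have hs : Function.Surjective π.continuous.connectedComponentsMap := by
    rintro ⟨y⟩
    obtain ⟨x, rfl⟩ := π.surjective y
    exact ⟨⟦x⟧, rfl⟩
  exact ENat.card_le_card_of_injective (Function.injective_surjInv hs)

/-- Distinct components are at most as many as geometric components. -/
theorem le_of_distinct {s : S} (h : Distinct f e s) : (n : ℕ∞) ≤ MoreMor.nGeomConnComp f s := by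
  refine le_trans (le_of_eq_of_le ?_ (ENat.card_le_card_of_injective (injective_of_distinct f e he h)))
    (card_fiber_le f s)
  simp

/-- Good sections cover the fibre. -/
theorem covers_of_good {s : S} (h : Good f e s) : Covers f e s := by
  intro x hx
  obtain ⟨z, rfl⟩ : x ∈ Set.range (f.fiberι s) := by rw [Scheme.Hom.range_fiberι]; exact hx
  by_contra hne
  push Not at hne
  let φ : Option (Fin n) → _root_.ConnectedComponents ↥(f.fiber s) := fun o =>
    o.elim (ConnectedComponents.mk z) fun j => ConnectedComponents.mk (pt f e he s j)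
  have hnot : ∀ j, ConnectedComponents.mk z ≠ ConnectedComponents.mk (pt f e he s j) := fun j hj =>
    hne j ((SecComp5.fiberι_mem_iff f (e j) (he j) s z).2 (ConnectedComponents.coe_eq_coe'.1 hj))
  have hφ : Function.Injective φ := by
    rintro (_ | i) (_ | j) hij
    · rfl
    · exact absurd hij (hnot j)
    · exact absurd hij.symm (hnot i)
    · exact congrArg some (injective_of_distinct f e he h.1 hij)
  have := (ENat.card_le_card_of_injective hφ).trans (card_fiber_le f s)
  rw [h.2] at this
  simp only [ENat.card_eq_coe_fintype_card, Fintype.card_option, Fintype.card_fin, Nat.cast_le] at this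
  omega

/-- A component with a rational point is geometrically connected. -/
theorem geomConn_component [LocallyOfFiniteType f] (s : S) (j : Fin n) (C : (f.fiber s).Opens)
    (hC : (C : Set ↥(f.fiber s)) = connectedComponent (pt f e he s j)) :
    GeometricallyConnected (C.ι ≫ f.fiberToSpecResidueField s) := by
  let q := f.fiberToSpecResidueField s
  let σ := SecComp5.fibreSection f (e j) (he j) s
  haveI : ConnectedSpace (C : Scheme.{u}) :=
    isConnected_iff_connectedSpace.1 (hC ▸ isConnected_connectedComponent)
  have hr : Set.range σ ⊆ Set.range C.ι := by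
    rw [Scheme.Opens.range_ι, hC]
    rintro _ ⟨z, rfl⟩
    rw [Subsingleton.elim z (IsLocalRing.closedPoint (S.residueField s))]
    exact mem_connectedComponent
  let σ' := IsOpenImmersion.lift C.ι σ hr
  haveI : GeometricallyConnected (σ' ≫ C.ι ≫ q) := by
    rw [IsOpenImmersion.lift_fac_assoc, show σ ≫ q = 𝟙 _ from pullback.lift_snd _ _ _]
    refine ⟨geometrically_iff_of_isClosedUnderIsomorphisms.mpr fun L _ x => ?_⟩
    rw [(asIso (pullback.snd (𝟙 (Spec (S.residueField s))) x)).hom.homeomorph.connectedSpace_iff]
    exact { toPreconnectedSpace := inferInstance, toNonempty := ⟨IsLocalRing.closedPoint L⟩ }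
  haveI : Nonempty ↥(Spec (S.residueField s)) := ⟨IsLocalRing.closedPoint (S.residueField s)⟩
  exact Groth.Agent.S2502.result (k := S.residueField s) σ' (C.ι ≫ q)

/-- If the sections cover a fibre there are at most as many geometric components as sections hit. -/
theorem nGeom_eq_card_of_covers [LocallyOfFiniteType f] {s : S} (h : Covers f e s) :
    MoreMor.nGeomConnComp f s = ENat.card (_root_.ConnectedComponents ↥(f.fiber s)) := by
  let q := f.fiberToSpecResidueField s
  haveI : LocallyOfFiniteType q := MorphismProperty.pullback_snd (P := @LocallyOfFiniteType) _ _ inferInstance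
  haveI : IsLocallyNoetherian (f.fiber s) := LocallyOfFiniteType.isLocallyNoetherian q
  haveI := SecComp5.locallyConnectedSpace (f.fiber s)
  let π := pullback.fst q (Lsc5.sepPt s)
  haveI : Surjective (Lsc5.sepPt s) := ⟨fun p => ⟨default, Subsingleton.elim _ _⟩⟩
  haveI : Surjective π := inferInstance
  refine Triage.GeomCount.card_connectedComponents_eq π π.continuous π.surjective fun y => ?_
  obtain ⟨j, hj⟩ := h (f.fiberι s y) ((Scheme.Hom.range_fiberι f s).subset ⟨y, rfl⟩)
  refine (connectedComponent_eq ((SecComp5.fiberι_mem_iff f (e j) (he j) s y).1 hj)) ▸ ?_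
  let C : (f.fiber s).Opens := ⟨_, isOpen_connectedComponent (x := pt f e he s j)⟩
  haveI := geomConn_component f e he s j C rfl
  haveI : ConnectedSpace ↥(pullback (C.ι ≫ q) (Lsc5.sepPt s)) :=
    GeometricallyConnected.geometrically_connectedSpace (f := C.ι ≫ q) _ _ _ (IsPullback.of_hasPullback _ _)
  let m := (pullbackRightPullbackFstIso q (Lsc5.sepPt s) C.ι).inv ≫ pullback.snd _ _
  have hrm : Set.range m = π ⁻¹' connectedComponent (pt f e he s j) := by
    rw [Scheme.Hom.comp_base, TopCat.coe_comp, Set.range_comp,
      Set.range_eq_univ.mpr (pullbackRightPullbackFstIso q (Lsc5.sepPt s) C.ι).inv.surjective,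
      Set.image_univ, Scheme.Pullback.range_snd, Scheme.Opens.range_ι]
    rfl
  rw [← hrm, ← Set.image_univ]
  exact isPreconnected_univ.image _ m.continuous.continuousOn

/-- Covering sections are at least as many as the geometric components. -/
theorem nGeom_le_of_covers [LocallyOfFiniteType f] {s : S} (h : Covers f e s) :
    MoreMor.nGeomConnComp f s ≤ n := by
  rw [nGeom_eq_card_of_covers f e he h]
  have hφ : Function.Surjective fun j => ConnectedComponents.mk (pt f e he s j) := by
    rintro ⟨z⟩
    obtain ⟨j, hj⟩ := h (f.fiberι s z) ((Scheme.Hom.range_fiberι f s).subset ⟨z, rfl⟩)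
    exact ⟨j, (ConnectedComponents.coe_eq_coe'.2 ((SecComp5.fiberι_mem_iff f (e j) (he j) s z).1 hj)).symm⟩
  refine (ENat.card_le_card_of_injective (Function.injective_surjInv hφ)).trans (le_of_eq ?_)
  simp

/-- Covering sections of the right number are good. -/
theorem good_of_covers [LocallyOfFiniteType f] {s : S} (h : Covers f e s)
    (hn : MoreMor.nGeomConnComp f s = n) : Good f e s := by
  refine ⟨fun i j hij => ?_, hn⟩
  let φ : Fin n → _root_.ConnectedComponents ↥(f.fiber s) := fun j => ConnectedComponents.mk (pt f e he s j)
  have hφ : Function.Surjective φ := by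
    rintro ⟨z⟩
    obtain ⟨j, hj⟩ := h (f.fiberι s z) ((Scheme.Hom.range_fiberι f s).subset ⟨z, rfl⟩)
    exact ⟨j, (ConnectedComponents.coe_eq_coe'.2 ((SecComp5.fiberι_mem_iff f (e j) (he j) s z).1 hj)).symm⟩
  haveI : Finite (_root_.ConnectedComponents ↥(f.fiber s)) := Finite.of_surjective φ hφ
  haveI := Fintype.ofFinite (_root_.ConnectedComponents ↥(f.fiber s))
  have hcard : Fintype.card (Fin n) = Fintype.card (_root_.ConnectedComponents ↥(f.fiber s)) := by
    rw [nGeom_eq_card_of_covers f e he h, ENat.card_eq_coe_fintype_card, Nat.cast_inj] at hn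
    rw [Fintype.card_fin, hn]
  exact ((Fintype.bijective_iff_surjective_and_card φ).2 ⟨hφ, hcard⟩).1
    (ConnectedComponents.coe_eq_coe'.2 ((mem_iff f e he s i j).1 hij)).symm

/-- When the sections are good each component is geometrically connected. -/
theorem geomConn_of_good [LocallyOfFiniteType f] (U : X.Opens) (j : Fin n)
    (hU : (U : Set X) = MoreMor.sectionComponents f (e j)) : GeometricallyConnected (U.ι ≫ f) := by
  refine (GeometricallyConnected.iff_geometricallyConnected_fiber _).2 fun s => ?_
  haveI : LocallyOfFiniteType (f.fiberToSpecResidueField s) :=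
    MorphismProperty.pullback_snd (P := @LocallyOfFiniteType) _ _ inferInstance
  haveI : IsLocallyNoetherian (f.fiber s) := LocallyOfFiniteType.isLocallyNoetherian (f.fiberToSpecResidueField s)
  haveI := SecComp5.locallyConnectedSpace (f.fiber s)
  let C : (f.fiber s).Opens := f.fiberι s ⁻¹ᵁ U
  have hC : (C : Set ↥(f.fiber s)) = connectedComponent (pt f e he s j) := by
    ext z
    show f.fiberι s z ∈ (U : Set X) ↔ _
    rw [hU]
    exact SecComp5.fiberι_mem_iff f (e j) (he j) s z
  haveI := geomConn_component f e he s j C hC
  let E := pullbackRightPullbackFstIso f (S.fromSpecResidueField s) U.ι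
  let E' := pullbackRestrictIsoRestrict (f.fiberι s) U
  have hE : (U.ι ≫ f).fiberToSpecResidueField s =
      (E.inv ≫ (pullbackSymmetry _ _).hom ≫ E'.hom) ≫ C.ι ≫ f.fiberToSpecResidueField s := by
    show pullback.snd (U.ι ≫ f) (S.fromSpecResidueField s) = _
    have h1 : E'.hom ≫ C.ι = pullback.fst (f.fiberι s) U.ι := by simp [C, E']
    simp only [Category.assoc]
    erw [reassoc_of% h1]
    simp [E, Scheme.Hom.fiberToSpecResidueField, Scheme.Hom.fiberι]
  rw [hE]
  exact (MorphismProperty.cancel_left_of_respectsIso @GeometricallyConnected _ _).2 inferInstance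

end Groth.Agent.Pi1Ext.StF
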