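import Groth.Agent.Pi1Ext.StF.Count
import Groth.Agent.S1561
import Groth.Agent.S2155
import Groth.Agent.S2156

/-!
# Smoothly locally on the base there are sections in all geometric components
-/

set_option linter.style.haveILetI false
set_option backward.isDefEq.respectTransparency false
set_option backward.isDefEq.respectTransparency.types false

universe u

open CategoryTheory CategoryTheory.Limits AlgebraicGeometry TopologicalSpace

noncomputable section

namespace Groth.Agent.Pi1Ext.StF

open Groth.Agent

/-- Components of sections map into components of sections. -/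
theorem map_mem_sectionComponents {X S X' S' : Scheme.{u}} {f : X ⟶ S} {f' : X' ⟶ S'} (q : X' ⟶ X) (r : S' ⟶ S)
    (hq : q ≫ f = f' ≫ r) {σ : S ⟶ X} {σ' : S' ⟶ X'} (hσ : σ' ≫ q = r ≫ σ) (hσ' : σ' ≫ f' = 𝟙 S') {x : X'}
    (hx : x ∈ MoreMor.sectionComponents f' σ') : q x ∈ MoreMor.sectionComponents f σ := by
  have hfq : ∀ z : X', f (q z) = r (f' z) := fun z => by
    rw [← Scheme.Hom.comp_apply, hq, Scheme.Hom.comp_apply]
  have hc : q (σ' (f' x)) = σ (r (f' x)) := by
    rw [← Scheme.Hom.comp_apply, hσ, Scheme.Hom.comp_apply]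
  show q x ∈ connectedComponentIn (f ⁻¹' {f (q x)}) (σ (f (q x)))
  rw [hfq, ← hc]
  refine (isPreconnected_connectedComponentIn.image q q.continuous.continuousOn).subset_connectedComponentIn
    ⟨σ' (f' x), mem_connectedComponentIn ?_, rfl⟩ ?_ ⟨x, hx, rfl⟩
  · show f' (σ' (f' x)) = f' x
    rw [← Scheme.Hom.comp_apply σ' f', hσ']
    rfl
  · rintro _ ⟨z, hz, rfl⟩
    show f (q z) = r (f' x)
    have hz' : f' z = f' x := connectedComponentIn_subset (f' ⁻¹' {f' x}) (σ' (f' x)) hz
    rw [hfq, hz']

theorem distinct_of_square {X S X' S' : Scheme.{u}} {f : X ⟶ S} {f' : X' ⟶ S'} (q : X' ⟶ X) (r : S' ⟶ S)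
    (hq : q ≫ f = f' ≫ r) {n : ℕ} {e : Fin n → (S ⟶ X)} {e' : Fin n → (S' ⟶ X')}
    (he : ∀ j, e' j ≫ q = r ≫ e j) (he' : ∀ j, e' j ≫ f' = 𝟙 S') {s : S'} (h : Distinct f e (r s)) :
    Distinct f' e' s := fun i j hij => h i j (by
  have := map_mem_sectionComponents q r hq (he i) (he' i) hij
  rwa [← Scheme.Hom.comp_apply (e' j) q, he j, Scheme.Hom.comp_apply] at this)

/-- The pulled back section. -/
abbrev pullSect {X S S' : Scheme.{u}} {f : X ⟶ S} (r : S' ⟶ S) (σ : S ⟶ X) (hσ : σ ≫ f = 𝟙 S) :
    S' ⟶ pullback f r :=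
  pullback.lift (r ≫ σ) (𝟙 S') (by rw [Category.assoc, hσ, Category.comp_id, Category.id_comp])

theorem good_pullSect {X S S' : Scheme.{u}} (f : X ⟶ S) (r : S' ⟶ S) {n : ℕ} (e : Fin n → (S ⟶ X))
    (he : ∀ j, e j ≫ f = 𝟙 S) {s : S'} (h : Good f e (r s)) :
    Good (pullback.snd f r) (fun j => pullSect r (e j) (he j)) s :=
  ⟨distinct_of_square (pullback.fst f r) r pullback.condition (fun _ => pullback.lift_fst _ _ _)
    (fun _ => pullback.lift_snd _ _ _) h.1,
    (Groth.Agent.S1335.result f _ _ r (IsPullback.of_hasPullback f r) s).trans h.2⟩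

theorem smoothLocus_of_fiber {X S : Scheme.{u}} (f : X ⟶ S) [LocallyOfFinitePresentation f] [Flat f] (s : S)
    [LocallyOfFinitePresentation (f.fiberToSpecResidueField s)] (z : ↥(f.fiber s))
    (hz : z ∈ (f.fiberToSpecResidueField s).smoothLocus) : f.fiberι s z ∈ f.smoothLocus := by
  obtain ⟨x, hx⟩ : ∃ x, f.fiberι s z = x := ⟨_, rfl⟩
  obtain rfl : f x = s := by rw [← hx]; exact (Scheme.Hom.range_fiberι f s).subset ⟨z, rfl⟩
  rw [hx]
  have : z = f.asFiber x := (f.fiberι (f x)).isEmbedding.injective (hx.trans (f.fiberι_asFiber x).symm)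
  exact (Groth.Agent.S2156.result f x).2 ⟨Flat.stalkMap f x, this ▸ hz⟩

/-- Smooth points are dense in the fibres. -/
theorem exists_smooth_point {X S : Scheme.{u}} (f : X ⟶ S) [LocallyOfFinitePresentation f] [Flat f]
    [GeometricallyReduced f] (s : S) (W : (f.fiber s).Opens) (hW : (W : Set ↥(f.fiber s)).Nonempty) :
    ∃ z ∈ W, f.fiberι s z ∈ f.smoothLocus := by
  let q := f.fiberToSpecResidueField s
  haveI : LocallyOfFinitePresentation q :=
    MorphismProperty.pullback_snd (P := @LocallyOfFinitePresentation) _ _ inferInstance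
  haveI : GeometricallyReduced q := MorphismProperty.pullback_snd (P := @GeometricallyReduced) _ _ inferInstance
  let K := AlgebraicClosure (S.residueField s)
  let b := Spec.map (CommRingCat.ofHom (algebraMap (S.residueField s) K))
  haveI : Flat b := (HasRingHomProperty.Spec_iff (P := @Flat)).mpr
    (RingHom.flat_algebraMap_iff.mpr inferInstance)
  haveI : Surjective b := GrpSchLib.surjective_spec_map_field _
  let P := pullback q b
  haveI : IsReduced P := GeometricallyReduced.geometrically_isReduced (f := q) _ _ _ (IsPullback.of_hasPullback q b)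
  letI : P.Over (Spec (CommRingCat.of K)) := ⟨pullback.snd q b⟩
  haveI : LocallyOfFinitePresentation (P ↘ Spec (CommRingCat.of K)) :=
    MorphismProperty.pullback_snd (P := @LocallyOfFinitePresentation) _ _ inferInstance
  let p : P ⟶ f.fiber s := pullback.fst q b
  haveI : Surjective p := MorphismProperty.pullback_fst (P := @Surjective) _ _ inferInstance
  obtain ⟨z₁, hz₁⟩ := hW
  obtain ⟨w₁, hw₁⟩ := p.surjective z₁
  obtain ⟨w, hwW, hw⟩ := (Groth.Agent.S1561.result K P).2.inter_open_nonempty (p ⁻¹ᵁ W : P.Opens)
    (p ⁻¹ᵁ W).isOpen ⟨w₁, by show p w₁ ∈ W; rw [hw₁]; exact hz₁⟩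
  refine ⟨p w, hwW, smoothLocus_of_fiber f s _ ?_⟩
  have := Groth.Agent.S2155.result q b (P ↘ Spec (CommRingCat.of K)) p (IsPullback.of_hasPullback q b) (Or.inr ‹_›)
  exact this.le hw

/-- An uncovered fibre has a smooth point outside the given components. -/
theorem exists_smooth_point_outside {X S : Scheme.{u}} (f : X ⟶ S) [LocallyOfFinitePresentation f] [Flat f]
    [GeometricallyReduced f] {n : ℕ} (e : Fin n → (S ⟶ X)) (he : ∀ j, e j ≫ f = 𝟙 S) {s : S}
    (h : ¬ Covers f e s) :
    ∃ x : X, f x = s ∧ x ∈ f.smoothLocus ∧ ∀ j, x ∉ MoreMor.sectionComponents f (e j) := by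
  simp only [Covers, not_forall, not_exists] at h
  obtain ⟨x₁, hx₁, hne⟩ := h
  obtain ⟨z₁, rfl⟩ : x₁ ∈ Set.range (f.fiberι s) := by rw [Scheme.Hom.range_fiberι]; exact hx₁
  let W : (f.fiber s).Opens := ⟨(⋃ j, connectedComponent (pt f e he s j))ᶜ,
    (isClosed_iUnion_of_finite fun j => isClosed_connectedComponent).isOpen_compl⟩
  have hmem : ∀ z : ↥(f.fiber s), z ∈ W ↔ ∀ j, f.fiberι s z ∉ MoreMor.sectionComponents f (e j) := fun z => by
    show z ∈ (⋃ j, connectedComponent (pt f e he s j))ᶜ ↔ _
    simp only [Set.mem_compl_iff, Set.mem_iUnion, not_exists]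
    exact forall_congr' fun j => not_congr (SecComp5.fiberι_mem_iff f (e j) (he j) s z).symm
  obtain ⟨z, hzW, hz⟩ := exists_smooth_point f s W ⟨z₁, (hmem z₁).2 hne⟩
  exact ⟨f.fiberι s z, (Scheme.Hom.range_fiberι f s).subset ⟨z, rfl⟩, hz, (hmem z).1 hzW⟩

/-- After a smooth base change some point above a given one has good sections. -/
theorem exists_good {X S : Scheme.{u}} (f : X ⟶ S) [IsProper f] [Flat f] [LocallyOfFinitePresentation f]
    [GeometricallyReduced f] (s : S) :
    ∃ (T : Scheme.{u}) (h : T ⟶ S) (_ : Smooth h) (t : T) (n : ℕ) (e : Fin n → (T ⟶ pullback f h)),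
      (∀ j, e j ≫ pullback.snd f h = 𝟙 T) ∧ h t = s ∧ Good (pullback.snd f h) e t := by
  obtain ⟨N, hN⟩ := ENat.ne_top_iff_exists.1 (nGeom_lt_top f s).ne
  suffices key : ∀ (d : ℕ) (T : Scheme.{u}) (h : T ⟶ S) (_ : Smooth h) (t : T) (i : ℕ)
      (e : Fin i → (T ⟶ pullback f h)), (∀ j, e j ≫ pullback.snd f h = 𝟙 T) → h t = s →
      Distinct (pullback.snd f h) e t → N ≤ i + d →
      ∃ (T : Scheme.{u}) (h : T ⟶ S) (_ : Smooth h) (t : T) (n : ℕ) (e : Fin n → (T ⟶ pullback f h)),
        (∀ j, e j ≫ pullback.snd f h = 𝟙 T) ∧ h t = s ∧ Good (pullback.snd f h) e t from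
    key N S (𝟙 S) inferInstance s 0 Fin.elim0 (fun j => j.elim0) rfl (fun i => i.elim0) (by omega)
  intro d
  induction d with
  | zero =>
    intro T h hh t i e he ht hd hi
    let fT := pullback.snd f h
    have hn : MoreMor.nGeomConnComp fT t = N := by
      rw [Groth.Agent.S1335.result f fT _ h (IsPullback.of_hasPullback f h) t, ht, hN]
    have hle := le_of_distinct fT e he hd
    rw [hn, Nat.cast_le] at hle
    exact ⟨T, h, hh, t, i, e, he, ht, hd, by rw [hn, show N = i by omega]⟩
  | succ d ih =>
    intro T h hh t i e he ht hd hi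
    haveI := hh
    let fT := pullback.snd f h
    haveI : IsProper fT := MorphismProperty.pullback_snd _ _ inferInstance
    haveI : Flat fT := MorphismProperty.pullback_snd (P := @Flat) _ _ inferInstance
    haveI : LocallyOfFinitePresentation fT :=
      MorphismProperty.pullback_snd (P := @LocallyOfFinitePresentation) _ _ inferInstance
    haveI : GeometricallyReduced fT := MorphismProperty.pullback_snd (P := @GeometricallyReduced) _ _ inferInstance
    have hn : MoreMor.nGeomConnComp fT t = N := by
      rw [Groth.Agent.S1335.result f fT _ h (IsPullback.of_hasPullback f h) t, ht, hN]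
    by_cases hc : Covers fT e t
    · have h1 := nGeom_le_of_covers fT e he hc
      have h2 := le_of_distinct fT e he hd
      exact ⟨T, h, hh, t, i, e, he, ht, hd, le_antisymm h1 h2⟩
    obtain ⟨x, hxt, hx, hout⟩ := exists_smooth_point_outside fT e he hc
    let U := fT.smoothLocus
    let r : (U : Scheme.{u}) ⟶ T := U.ι ≫ fT
    haveI : Smooth r := by
      show Smooth (fT.smoothLocus.ι ≫ fT)
      rw [← Scheme.Hom.smoothLocus_eq_top_iff, ← Scheme.Hom.preimage_smoothLocus_eq, top_le_iff.symm]
      exact fun z _ => z.2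
    let h' : (U : Scheme.{u}) ⟶ S := r ≫ h
    haveI : Smooth h' := inferInstanceAs (Smooth (_ ≫ _))
    let q : pullback f h' ⟶ pullback f h :=
      pullback.lift (pullback.fst f h') (pullback.snd f h' ≫ r) (by
        rw [pullback.condition, Category.assoc])
    let old : Fin i → ((U : Scheme.{u}) ⟶ pullback f h') := fun j =>
      pullback.lift (r ≫ e j ≫ pullback.fst f h) (𝟙 _) (by
        simp only [h', Category.assoc, Category.id_comp, pullback.condition, reassoc_of% (he j)])
    let new : (U : Scheme.{u}) ⟶ pullback f h' :=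
      pullback.lift (U.ι ≫ pullback.fst f h) (𝟙 _) (by
        simp only [h', r, fT, Category.assoc, Category.id_comp, pullback.condition])
    let e' : Fin (i + 1) → ((U : Scheme.{u}) ⟶ pullback f h') := Fin.snoc old new
    have he' : ∀ j, e' j ≫ pullback.snd f h' = 𝟙 _ := fun j => by
      induction j using Fin.lastCases with
      | last => simp only [e', Fin.snoc_last]; exact pullback.lift_snd _ _ _
      | cast j => simp only [e', Fin.snoc_castSucc]; exact pullback.lift_snd _ _ _
    have hq : q ≫ fT = pullback.snd f h' ≫ r := pullback.lift_snd _ _ _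
    have hold : ∀ j, old j ≫ q = r ≫ e j := fun j => by
      refine pullback.hom_ext ?_ ?_
      · simp [old, q]
      · simp [old, q, he j]
        exact Category.id_comp _
    have hnew : new ≫ q = U.ι := by
      refine pullback.hom_ext ?_ ?_
      · simp [new, q]
      · simp [new, q, r, fT]
        exact Category.id_comp _
    let t' : (U : Scheme.{u}) := ⟨x, hx⟩
    have ht' : r t' = t := hxt
    refine ih (U : Scheme.{u}) h' inferInstance t' (i + 1) e' he' ?_ ?_ (by omega)
    · show h (r t') = s
      rw [ht', ht]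
    · intro a b hab
      induction a using Fin.lastCases with
      | last =>
        induction b using Fin.lastCases with
        | last => rfl
        | cast j =>
          exfalso
          simp only [e', Fin.snoc_last, Fin.snoc_castSucc] at hab
          have hsym : new t' ∈ MoreMor.sectionComponents (pullback.snd f h') (old j) := by
            let e₂ : Fin 2 → ((U : Scheme.{u}) ⟶ pullback f h') := ![new, old j]
            have he₂ : ∀ l, e₂ l ≫ pullback.snd f h' = 𝟙 _ := fun l => by
              fin_cases l <;> exact pullback.lift_snd _ _ _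
            have h1 := (mem_iff (pullback.snd f h') e₂ he₂ t' 0 1).1 hab
            exact (mem_iff (pullback.snd f h') e₂ he₂ t' 1 0).2
              (connectedComponent_eq h1 ▸ mem_connectedComponent)
          have := map_mem_sectionComponents q r hq (hold j) (pullback.lift_snd _ _ _) hsym
          rw [← Scheme.Hom.comp_apply new q, hnew] at this
          exact hout j this
      | cast j =>
        induction b using Fin.lastCases with
        | last =>
          exfalso
          simp only [e', Fin.snoc_last, Fin.snoc_castSucc] at hab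
          have := map_mem_sectionComponents q r hq (hold j) (pullback.lift_snd _ _ _) hab
          rw [← Scheme.Hom.comp_apply new q, hnew] at this
          exact hout j this
        | cast l =>
          simp only [e', Fin.snoc_castSucc] at hab
          have hd' : Distinct (pullback.snd f h') old t' :=
            distinct_of_square q r hq hold (fun _ => pullback.lift_snd _ _ _) (by rw [ht']; exact hd)
          exact congrArg Fin.castSucc (hd' j l hab)

end Groth.Agent.Pi1Ext.StF
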